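import Cfsg.Agent.UnitCentPrime.Basic

/-!
Elements of order seven in the special unitary group of dimension four over the field with nine elements.
-/

set_option autoImplicit false
set_option linter.unusedSectionVars false
set_option linter.style.haveILetI false

namespace CfsgLib.U43Seven

open Polynomial Matrix

variable {L : Type*} [Field L]

/-- An eigenvector for one of the values of a full system lies on the corresponding line. -/
theorem eigen_line {B : Matrix (Fin 4) (Fin 4) L} {v : Fin 4 → Fin 4 → L} {μ : Fin 4 → L}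
    (hli : LinearIndependent L v) (hμ : Function.Injective μ) (hv : ∀ i, B *ᵥ v i = μ i • v i)
    (i : Fin 4) (x : Fin 4 → L) (hx : B *ᵥ x = μ i • x) : ∃ c : L, x = c • v i := by
  classical
  let b := basisOfLinearIndependentOfCardEqFinrank hli (by simp)
  have hb : ∀ l, b l = v l := fun l => by simp [b]
  have hcoord : ∀ (k : Fin 4) y, b.coord k (B *ᵥ y) = μ k * b.coord k y := by
    intro k y
    have h : (b.coord k).comp (Matrix.mulVecLin B) = μ k • b.coord k := by
      refine b.ext fun l => ?_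
      rw [LinearMap.comp_apply, Matrix.mulVecLin_apply, hb, hv, map_smul, LinearMap.smul_apply, ← hb l,
        Module.Basis.coord_apply, Module.Basis.repr_self]
      rcases eq_or_ne l k with rfl | hlk
      · rfl
      · simp [Finsupp.single_eq_of_ne hlk.symm]
    exact LinearMap.congr_fun h y
  refine ⟨b.coord i x, b.ext_elem fun k => ?_⟩
  rw [map_smul, ← hb, Module.Basis.repr_self, Finsupp.smul_apply]
  rcases eq_or_ne i k with rfl | hik
  · simp
  · rw [Finsupp.single_eq_of_ne hik.symm, smul_zero]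
    have h3 := hcoord k x
    rw [hx, map_smul, smul_eq_mul] at h3
    have h4 : (μ i - μ k) * b.coord k x = 0 := by rw [sub_mul, h3, sub_self]
    exact (mul_eq_zero.1 h4).resolve_left (sub_ne_zero.2 fun h => hik (hμ h))

variable {K : Type*} [Field K] [Fintype K] (hK : Nat.card K = 3 ^ 2)

include hK in
theorem charP_three : CharP K 3 := by
  obtain ⟨p, hp⟩ := CharP.exists K
  haveI : Fact p.Prime := ⟨CharP.char_is_prime K p⟩
  obtain ⟨k, -, hk⟩ := FiniteField.card K p
  rw [Fintype.card_eq_nat_card, hK] at hk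
  have h3 : p ∣ 3 ^ 2 := hk ▸ dvd_pow_self p k.pos.ne'
  rwa [← (Nat.prime_dvd_prime_iff_eq (CharP.char_is_prime K p) Nat.prime_three).1
    ((CharP.char_is_prime K p).dvd_of_dvd_pow h3)]

/-- A full system of eigenvectors of an element of order seven. -/
theorem exists_eigen (hK : Nat.card K = 3 ^ 2) {L : Type*} [Field L] [IsAlgClosed L] [CharP L 3] (ι : K →+* L)
    (B : GL (Fin 4) K) (hB : B ∈ Cfsg.GU 4 K 3) (hB7 : B ^ 7 = 1) (hBne : B ≠ 1) :
    ∃ (l : L) (v : Fin 4 → Fin 4 → L),
      orderOf l = 7 ∧ Function.Injective ![1, l, l ^ 2, l ^ 4] ∧ LinearIndependent L v ∧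
      (∀ i, (B.val.map ι) *ᵥ v i = ![1, l, l ^ 2, l ^ 4] i • v i) ∧
      v 2 = (fun x => x ^ 9) ∘ v 1 ∧ v 3 = (fun x => x ^ 9) ∘ v 2 ∧
      (B.val.map ι).charpoly.roots = {1, l, l ^ 2, l ^ 4} := by
  classical
  haveI : Fact (Nat.Prime 3) := ⟨Nat.prime_three⟩
  let τ : L →+* L := frobenius L 3
  have hτ : ∀ x, τ x = x ^ 3 := fun x => frobenius_def 3 x
  have hι : Function.Injective ι := ι.injective
  set f := (B.val.map ι).charpoly with hf
  set M := f.roots with hM
  have hfM : (M.map fun a => X - C a).prod = f :=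
    ((IsAlgClosed.splits f).eq_prod_roots_of_monic (Matrix.charpoly_monic _)).symm
  have hcard : M.card = 4 := by
    rw [hM, IsAlgClosed.card_roots_eq_natDegree, hf, Matrix.charpoly_natDegree_eq_dim, Fintype.card_fin]
  have hBr : (B.val.map ι) ^ 7 = 1 := by
    rw [← RingHom.mapMatrix_apply, ← map_pow, ← Units.val_pow_eq_pow_val, hB7, Units.val_one, map_one]
  have hev : ∀ l ∈ M, ∃ v, v ≠ 0 ∧ (B.val.map ι) *ᵥ v = l • v := by
    intro l hl
    have h := (Polynomial.mem_roots'.1 hl).2
    rw [IsRoot.def, hf, Matrix.eval_charpoly] at h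
    obtain ⟨v, hv, hv0⟩ := Matrix.exists_mulVec_eq_zero_iff.2 h
    refine ⟨v, hv, ?_⟩
    rw [Matrix.sub_mulVec, sub_eq_zero] at hv0
    rw [← hv0]
    funext i
    simp [Matrix.scalar_apply, Matrix.mulVec_diagonal]
  have hroot : ∀ l ∈ M, l ^ 7 = 1 := by
    intro l hl
    obtain ⟨v, hv, hv1⟩ := hev l hl
    have hpow : ∀ j, (B.val.map ι) ^ j *ᵥ v = l ^ j • v := by
      intro j
      induction j with
      | zero => simp
      | succ j ih => rw [pow_succ, ← Matrix.mulVec_mulVec, hv1, Matrix.mulVec_smul, ih, smul_smul, ← pow_succ']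
    have h := hpow 7
    rw [hBr, Matrix.one_mulVec] at h
    by_contra hne
    exact hv ((smul_eq_zero.1 (show (1 - l ^ 7) • v = 0 by rw [sub_smul, one_smul, ← h, sub_self])).resolve_left
      (sub_ne_zero.2 (Ne.symm hne)))
  have h0 : (0 : L) ∉ M := fun h => by simpa using hroot 0 h
  have hinv : M.map (fun a => (τ a)⁻¹) = M := by
    have h1 := congrArg (Polynomial.map ι) (CfsgLib.Geo.USemi.dual_charpoly_eq hK hB)
    rw [CfsgLib.UnitCentPrime.dual_map ι _ τ (fun x => by rw [hτ, CfsgLib.Forms.frobQ_apply, map_pow]),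
      ← Matrix.charpoly_map] at h1
    change CfsgLib.Geo.USemi.dual τ f = f at h1
    rw [← hfM, CfsgLib.UnitCentPrime.roots_dual_prod τ M h0] at h1
    have := congrArg Polynomial.roots h1
    rwa [roots_multiset_prod_X_sub_C, roots_multiset_prod_X_sub_C] at this
  have hinv' : M.map (fun a => a ^ 4) = M := by
    conv_rhs => rw [← hinv]
    refine Multiset.map_congr rfl fun a ha => ?_
    rw [hτ]
    exact eq_inv_of_mul_eq_one_left (by rw [← pow_add]; exact hroot a ha)
  obtain ⟨l, hl, hl1⟩ : ∃ l ∈ M, l ≠ 1 := by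
    by_contra hall
    push Not at hall
    apply hBne
    have hrep : M = Multiset.replicate 4 1 := Multiset.eq_replicate.2 ⟨hcard, hall⟩
    have h := Matrix.aeval_self_charpoly (B.val.map ι)
    rw [← hf, ← hfM, hrep, Multiset.map_replicate, Multiset.prod_replicate, map_pow, map_sub, aeval_X, aeval_C,
      map_one] at h
    have h2 : (B.val.map ι - 1) ^ (3 ^ 2) = 0 := pow_eq_zero_of_le (by norm_num) h
    rw [sub_pow_char_pow_of_commute 3 2 (Commute.one_right _), one_pow, sub_eq_zero] at h2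
    have h3 := Nat.dvd_gcd (orderOf_dvd_of_pow_eq_one hBr) (orderOf_dvd_of_pow_eq_one h2)
    norm_num at h3
    apply Units.ext
    rw [Units.val_one]
    exact Matrix.map_injective hι (h3.trans (Matrix.map_one ι (map_zero _) (map_one _)).symm)
  haveI : Fact (Nat.Prime 7) := ⟨by norm_num⟩
  have hord : orderOf l = 7 := orderOf_eq_prime (hroot l hl) hl1
  have hmod : ∀ a b : ℕ, l ^ a = l ^ b ↔ a % 7 = b % 7 := by
    intro a b
    rw [← pow_mod_orderOf l a, ← pow_mod_orderOf l b, hord]
    exact ⟨fun h => pow_injOn_Iio_orderOf (by rw [hord]; exact Nat.mod_lt _ (by norm_num))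
      (by rw [hord]; exact Nat.mod_lt _ (by norm_num)) h, fun h => by rw [h]⟩
  have hclosed : ∀ a ∈ M, a ^ 4 ∈ M := fun a ha => by
    rw [← hinv']; exact Multiset.mem_map_of_mem _ ha
  have h4 : l ^ 4 ∈ M := hclosed l hl
  have h2 : l ^ 2 ∈ M := by
    have := hclosed _ h4
    rwa [← pow_mul, (hmod (4 * 4) 2).2 (by norm_num)] at this
  set s : Multiset L := {l, l ^ 4, l ^ 2} with hs
  have hsn : s.Nodup := by
    rw [hs]
    simp only [Multiset.insert_eq_cons, Multiset.nodup_cons, Multiset.mem_cons, Multiset.mem_singleton,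
      Multiset.nodup_singleton, and_true, not_or]
    refine ⟨⟨fun h => ?_, fun h => ?_⟩, fun h => ?_⟩
    · have := (hmod 1 4).1 (by rw [pow_one]; exact h)
      omega
    · have := (hmod 1 2).1 (by rw [pow_one]; exact h)
      omega
    · have := (hmod 4 2).1 h
      omega
  obtain ⟨t, ht⟩ := Multiset.le_iff_exists_add.1 ((Multiset.le_iff_subset hsn).2 (show s ⊆ M by
    intro x hx
    simp only [hs, Multiset.insert_eq_cons, Multiset.mem_cons, Multiset.mem_singleton] at hx
    rcases hx with rfl | rfl | rfl <;> assumption))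
  have htc : t.card = 1 := by
    have := congrArg Multiset.card ht
    rw [hcard, Multiset.card_add] at this
    simp [hs] at this
    omega
  obtain ⟨a, rfl⟩ := Multiset.card_eq_one.1 htc
  have hsmap : s.map (fun a => a ^ 4) = s := by
    simp only [hs, Multiset.insert_eq_cons, Multiset.map_cons, Multiset.map_singleton, ← pow_mul]
    rw [(hmod (4 * 4) 2).2 (by norm_num), (hmod (2 * 4) 1).2 (by norm_num), pow_one]
    simp only [← Multiset.singleton_add]
    abel
  have ha : a = 1 := by
    have h := hinv'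
    rw [ht, Multiset.map_add, hsmap, Multiset.map_singleton] at h
    have h' : a ^ 4 = a := Multiset.singleton_inj.1 (add_left_cancel h)
    have h7 : a ^ 7 = 1 := hroot a (by rw [ht]; simp)
    have h3 : a ^ 3 = 1 := by
      rw [show a ^ 7 = a ^ 4 * a ^ 3 by ring, h', show a * a ^ 3 = a ^ 4 by ring, h'] at h7
      rw [h7, one_pow]
    have := Nat.dvd_gcd (orderOf_dvd_of_pow_eq_one h3) (orderOf_dvd_of_pow_eq_one (hroot a (by rw [ht]; simp)))
    norm_num at this
    exact this
  subst ha
  obtain ⟨v0, hv0, hv0'⟩ := hev 1 (by rw [ht]; simp)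
  obtain ⟨v1, hv1, hv1'⟩ := hev l hl
  let ψ : L →+* L := iterateFrobenius L 3 2
  have hψ : ∀ x, ψ x = x ^ 9 := fun x => by
    show iterateFrobenius L 3 2 x = _
    rw [iterateFrobenius_def]; norm_num
  have hψι : ∀ k, ψ (ι k) = ι k := fun k => by
    rw [hψ, ← map_pow, show 9 = Fintype.card K by rw [Fintype.card_eq_nat_card, hK]; norm_num, FiniteField.pow_card]
  have hstep : ∀ (c : L) (w : Fin 4 → L), (B.val.map ι) *ᵥ w = c • w →
      (B.val.map ι) *ᵥ (ψ ∘ w) = ψ c • (ψ ∘ w) := by
    intro c w h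
    funext i
    have h' := congrArg ψ (congrFun h i)
    rw [RingHom.map_mulVec, Matrix.map_map, Pi.smul_apply, smul_eq_mul, map_mul] at h'
    rw [Pi.smul_apply, smul_eq_mul, Function.comp_apply, ← h']
    congr 2
    ext i j
    simp [hψι]
  have hne : ∀ w : Fin 4 → L, w ≠ 0 → ψ ∘ w ≠ 0 := fun w hw h => hw (funext fun i =>
    (map_eq_zero ψ).1 (congrFun h i))
  have h2' := hstep _ _ hv1'
  have h3' := hstep _ _ h2'
  rw [show ψ l = l ^ 2 by rw [hψ]; exact (hmod 9 2).2 (by norm_num)] at h2' h3'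
  rw [show ψ (l ^ 2) = l ^ 4 by rw [hψ, ← pow_mul]; exact (hmod (2 * 9) 4).2 (by norm_num)] at h3'
  have hinj : Function.Injective ![1, l, l ^ 2, l ^ 4] := by
    have : ∀ i : Fin 4, ![1, l, l ^ 2, l ^ 4] i = l ^ (![0, 1, 2, 4] i : ℕ) := fun i => by
      fin_cases i <;> simp
    intro i j h
    rw [this, this, hmod] at h
    revert h
    revert i j
    decide
  refine ⟨l, ![v0, v1, ψ ∘ v1, ψ ∘ (ψ ∘ v1)], hord, hinj, ?_, ?_, ?_, ?_, ?_⟩
  · refine Module.End.eigenvectors_linearIndependent' (Matrix.toLinAlgEquiv' (B.val.map ι)) _ hinj _ (fun i => ?_)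
    refine ⟨Module.End.mem_eigenspace_iff.2 ?_, ?_⟩
    · rw [Matrix.toLinAlgEquiv'_apply]
      fin_cases i <;> assumption
    · fin_cases i
      · exact hv0
      · exact hv1
      · exact hne _ hv1
      · exact hne _ (hne _ hv1)
  · intro i
    fin_cases i <;> assumption
  · funext i; exact hψ _
  · funext i; exact hψ _
  · rw [ht, hs]
    simp only [Multiset.insert_eq_cons, ← Multiset.singleton_add]
    abel

/-- The unitary pairing of two eigenvectors. -/
theorem pairing {A : Matrix (Fin 4) (Fin 4) L} (τ : L →+* L) (hA : (A.map τ)ᵀ * A = 1) {v x : Fin 4 → L} {a c : L}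
    (hv : A *ᵥ v = a • v) (hx : A *ᵥ x = c • x) : τ a * c * ((τ ∘ v) ⬝ᵥ x) = (τ ∘ v) ⬝ᵥ x := by
  have h1 : (A.map τ) *ᵥ (τ ∘ v) = τ a • (τ ∘ v) := by
    funext i
    rw [← RingHom.map_mulVec, hv]
    simp
  have h2 : (τ ∘ v) ⬝ᵥ (((A.map τ)ᵀ * A) *ᵥ x) = ((A.map τ) *ᵥ (τ ∘ v)) ⬝ᵥ (A *ᵥ x) := by
    rw [← Matrix.mulVec_mulVec, Matrix.dotProduct_mulVec, Matrix.vecMul_transpose]
  rw [hA, Matrix.one_mulVec, h1, hx, smul_dotProduct, dotProduct_smul, smul_eq_mul, smul_eq_mul,
    ← mul_assoc] at h2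
  exact h2.symm

include hK in
/-- The centraliser of an element of order seven in SU(4,3) has at most 28 elements. -/
theorem card_centralizer_le (B : Cfsg.SU 4 K 3) (hB7 : B ^ 7 = 1) (hBne : B ≠ 1) :
    Nat.card (Subgroup.centralizer ({B} : Set (Cfsg.SU 4 K 3))) ≤ 28 := by
  classical
  haveI := charP_three hK
  haveI : Fact (Nat.Prime 3) := ⟨Nat.prime_three⟩
  let L := AlgebraicClosure K
  let ι : K →+* L := algebraMap K L
  haveI : CharP L 3 := charP_of_injective_algebraMap (algebraMap K L).injective 3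
  let gl : Cfsg.SU 4 K 3 →* GL (Fin 4) K := Matrix.SpecialLinearGroup.toGL.comp (Cfsg.SU 4 K 3).subtype
  have hgl : Function.Injective gl := Matrix.SpecialLinearGroup.toGL_injective.comp Subtype.val_injective
  obtain ⟨l, v, hord, hinj, hli, hv, h2, h3, -⟩ := exists_eigen hK ι (gl B) B.2
    (by rw [← map_pow, hB7, map_one]) (fun h => hBne (hgl (h.trans (map_one gl).symm)))
  let m : Cfsg.SU 4 K 3 →* Matrix (Fin 4) (Fin 4) L :=
    (ι.mapMatrix.toMonoidHom).comp ((Units.coeHom _).comp gl)
  have hm : Function.Injective m := fun x y h => hgl (Units.ext (Matrix.map_injective ι.injective h))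
  have hcm : ∀ A ∈ Subgroup.centralizer ({B} : Set (Cfsg.SU 4 K 3)), ∀ i, ∃ a : L, m A *ᵥ v i = a • v i := by
    intro A hA i
    refine eigen_line hli hinj hv i _ ?_
    show m B *ᵥ (m A *ᵥ v i) = _
    have hcomm : B * A = A * B := Subgroup.mem_centralizer_iff.1 hA B rfl
    rw [Matrix.mulVec_mulVec, ← map_mul, hcomm, map_mul, ← Matrix.mulVec_mulVec]
    show m A *ᵥ ((gl B).val.map ι *ᵥ v i) = _
    rw [hv, Matrix.mulVec_smul]
  let τ : L →+* L := frobenius L 3
  let ψ : L →+* L := iterateFrobenius L 3 2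
  have hψ : ∀ x, ψ x = x ^ 9 := fun x => by
    show iterateFrobenius L 3 2 x = _
    rw [iterateFrobenius_def]; norm_num
  have huni : ∀ A, ((m A).map τ)ᵀ * m A = 1 := by
    intro A
    have h := (CfsgLib.Unitary.mem_GU_iff_adj hK).1 (show gl A ∈ Cfsg.GU 4 K 3 from A.2)
    have h' := congrArg ι.mapMatrix h
    rw [map_mul, map_one] at h'
    rw [show ((m A).map τ)ᵀ = ι.mapMatrix (CfsgLib.Unitary.adj (CfsgLib.Forms.frobQ hK) (gl A).val) from ?_]
    · exact h'
    ext i j
    simp only [m, CfsgLib.Unitary.adj, RingHom.mapMatrix_apply, Matrix.map_apply, Matrix.transpose_apply,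
      MonoidHom.comp_apply, RingHom.toMonoidHom_eq_coe, MonoidHom.coe_coe, Units.coeHom_apply,
      CfsgLib.Forms.frobQ_apply, τ, frobenius_def, map_pow]
  have hgal : ∀ A (w : Fin 4 → L) (c : L), m A *ᵥ w = c • w → m A *ᵥ (ψ ∘ w) = ψ c • (ψ ∘ w) := by
    intro A w c h
    funext i
    have h' := congrArg ψ (congrFun h i)
    have key : (m A).map ψ = m A := by
      ext x y
      show ψ (ι _) = ι _
      rw [hψ, ← map_pow, show 9 = Fintype.card K by rw [Fintype.card_eq_nat_card, hK]; norm_num, FiniteField.pow_card]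
    rw [RingHom.map_mulVec, key, Pi.smul_apply, smul_eq_mul, map_mul] at h'
    rw [Pi.smul_apply, smul_eq_mul, Function.comp_apply]
    exact h'
  have h2' : v 2 = ψ ∘ v 1 := by rw [h2]; funext i; exact (hψ _).symm
  have h3' : v 3 = ψ ∘ v 2 := by rw [h3]; funext i; exact (hψ _).symm
  choose a ha using hcm
  have hne : ∀ i, v i ≠ 0 := fun i => hli.ne_zero i
  have heig : ∀ A hA i c, m A *ᵥ v i = c • v i → a A hA i = c := fun A hA i c h =>
    smul_left_injective L (hne i) ((ha A hA i).symm.trans h)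
  have ha2 : ∀ A hA, a A hA 2 = ψ (a A hA 1) := fun A hA => heig A hA 2 _ (by
    rw [h2']; exact hgal A _ _ (ha A hA 1))
  have ha3 : ∀ A hA, a A hA 3 = ψ (ψ (a A hA 1)) := fun A hA => heig A hA 3 _ (by
    rw [h3', ← ha2]; exact hgal A _ _ (ha A hA 2))
  have ha1 : ∀ A hA, ψ (ψ (ψ (a A hA 1))) = a A hA 1 := by
    intro A hA
    have hB4 := hgal B _ _ (hv 3)
    have hl : ψ (![1, l, l ^ 2, l ^ 4] 3) = l := by
      simp only [Matrix.cons_val, hψ, ← pow_mul]
      rw [← pow_mod_orderOf, hord]; norm_num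
    rw [hl] at hB4
    obtain ⟨c, hc⟩ := eigen_line hli hinj hv 1 _ hB4
    have h := hgal A _ _ (ha A hA 3)
    rw [hc, Matrix.mulVec_smul, ha A hA 1, smul_smul, smul_smul] at h
    have hc0 : c ≠ 0 := by
      rintro rfl
      rw [zero_smul] at hc
      exact hne 3 (funext fun i => (map_eq_zero ψ).1 (congrFun hc i))
    have h' := smul_left_injective L (hne 1) h
    have h'' : a A hA 1 = ψ (a A hA 3) := mul_right_cancel₀ hc0 (by rw [mul_comm]; exact h')
    rw [ha3] at h''
    exact h''.symm
  have hw : (τ ∘ v 1) ⬝ᵥ v 3 ≠ 0 := by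
    intro h0
    have hzero : ∀ i, (τ ∘ v 1) ⬝ᵥ v i = 0 := by
      intro i
      by_cases hi : i = 3
      · rw [hi, h0]
      · have hp := pairing τ (huni B) (show m B *ᵥ v 1 = _ from hv 1) (show m B *ᵥ v i = _ from hv i)
        have hne1 : τ (![1, l, l ^ 2, l ^ 4] 1) * ![1, l, l ^ 2, l ^ 4] i ≠ 1 := by
          intro h
          refine hi (hinj ?_)
          have h' : l ^ 3 * ![1, l, l ^ 2, l ^ 4] i = l ^ 3 * l ^ 4 := by
            rw [← pow_add, show 3 + 4 = orderOf l from hord.symm, pow_orderOf_eq_one]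
            exact (show τ (![1, l, l ^ 2, l ^ 4] 1) = l ^ 3 from frobenius_def 3 l) ▸ h
          have hl0 : l ≠ 0 := fun h => by simp [h] at hord
          exact mul_left_cancel₀ (pow_ne_zero 3 hl0) h'
        by_contra hx
        exact hne1 (mul_right_cancel₀ hx (hp.trans (one_mul _).symm))
    let b := basisOfLinearIndependentOfCardEqFinrank hli (by simp)
    have hall : ∀ y, (τ ∘ v 1) ⬝ᵥ y = 0 := by
      intro y
      rw [← b.sum_repr y, dotProduct_sum]
      exact Finset.sum_eq_zero fun i _ => by simp [b, dotProduct_smul, hzero]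
    exact hne 1 (funext fun i => (map_eq_zero τ).1 (congrFun (dotProduct_eq_zero _ hall) i))
  have h28 : ∀ A hA, a A hA 1 ^ 28 = 1 := by
    intro A hA
    have hp := pairing τ (huni A) (ha A hA 1) (ha A hA 3)
    have h84 := mul_right_cancel₀ hw (hp.trans (one_mul _).symm)
    rw [ha3] at h84
    have h729 := ha1 A hA
    simp only [τ, frobenius_def, hψ, ← pow_mul, ← pow_add] at h84 h729
    norm_num at h84 h729
    have h0 : a A hA 1 ≠ 0 := fun h => by simp [h] at h84
    have h728 : a A hA 1 ^ 728 = 1 := by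
      refine mul_right_cancel₀ h0 ?_
      rw [← pow_succ, one_mul]
      exact h729
    have := pow_gcd_eq_one.2 ⟨h84, h728⟩
    norm_num at this
    exact this
  have hfin : Finite {x : L // x ^ 28 = 1} :=
    Finite.of_injective (fun x => (⟨x.1, (Polynomial.mem_nthRootsFinset (by norm_num) 1).2 x.2⟩ :
      {y : L // y ∈ Polynomial.nthRootsFinset 28 (1 : L)})) (fun x y h => Subtype.ext (Subtype.mk.inj h))
  refine le_trans (Nat.card_le_card_of_injective
    (fun A => (⟨a A.1 A.2 1, h28 A.1 A.2⟩ : {x : L // x ^ 28 = 1})) ?_) ?_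
  · intro A A' h
    have h1 : a A.1 A.2 1 = a A'.1 A'.2 1 := congrArg Subtype.val h
    have hD : (A⁻¹ * A').1 ∈ Subgroup.centralizer ({B} : Set (Cfsg.SU 4 K 3)) := (A⁻¹ * A').2
    set D := (A⁻¹ * A').1
    have hid : m A.1⁻¹ * m A.1 = 1 := by rw [← map_mul, inv_mul_cancel, map_one]
    have hD1 : a D hD 1 = 1 := by
      refine heig D hD 1 1 ?_
      have h1v : v 1 = (m A.1⁻¹ * m A.1) *ᵥ v 1 := by rw [hid, Matrix.one_mulVec]
      show m (A.1⁻¹ * A'.1) *ᵥ v 1 = _
      rw [map_mul, ← Matrix.mulVec_mulVec, ha A'.1 A'.2 1, ← h1, ← ha A.1 A.2 1, Matrix.mulVec_mulVec, hid,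
        Matrix.one_mulVec, one_smul]
    have hD2 : a D hD 2 = 1 := by rw [ha2, hD1, map_one]
    have hD3 : a D hD 3 = 1 := by rw [ha3, hD1, map_one, map_one]
    let P : Matrix (Fin 4) (Fin 4) L := (Matrix.of v)ᵀ
    have hP : IsUnit P := Matrix.linearIndependent_cols_iff_isUnit.1 hli
    have hDP : m D * P = P * Matrix.diagonal (a D hD) := by
      ext i j
      rw [Matrix.mul_diagonal, mul_comm]
      exact congrFun (ha D hD j) i
    have hdet := congrArg Matrix.det hDP
    have hDdet : (m D).det = 1 := by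
      show ((gl D).val.map ι).det = 1
      rw [← RingHom.mapMatrix_apply, ← RingHom.map_det, show (gl D).val.det = 1 from D.1.2, map_one]
    rw [Matrix.det_mul, Matrix.det_mul, hDdet, Matrix.det_diagonal, one_mul] at hdet
    have hprod : ∏ i, a D hD i = 1 :=
      (mul_eq_left₀ ((Matrix.isUnit_iff_isUnit_det _).1 hP).ne_zero).1 hdet.symm
    rw [Fin.prod_univ_four, hD1, hD2, hD3, mul_one, mul_one, mul_one] at hprod
    have hone : m D = 1 := by
      have hdiag : Matrix.diagonal (a D hD) = (1 : Matrix (Fin 4) (Fin 4) L) := by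
        rw [← Matrix.diagonal_one]
        congr 1
        funext i
        fin_cases i <;> assumption
      rw [hdiag, mul_one] at hDP
      exact hP.mul_eq_right.1 hDP
    have : D = 1 := hm (hone.trans (map_one m).symm)
    exact inv_mul_eq_one.1 (Subtype.ext this)
  · refine le_trans (Nat.card_le_card_of_injective (fun x => (⟨x.1, (Polynomial.mem_nthRootsFinset (by norm_num) 1).2 x.2⟩ :
      {y : L // y ∈ Polynomial.nthRootsFinset 28 (1 : L)})) (fun x y h => Subtype.ext (Subtype.mk.inj h))) ?_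
    rw [Nat.card_eq_fintype_card, Fintype.card_coe, Polynomial.nthRootsFinset_def]
    exact (Multiset.toFinset_card_le _).trans (Polynomial.card_nthRoots 28 1)

include hK in
/-- An element of order seven is conjugate to its square but to no power outside the set {1, 2, 4}. -/
theorem conj_square (B : Cfsg.SU 4 K 3) (hB7 : B ^ 7 = 1) (hBne : B ≠ 1) :
    IsConj B (B ^ 2) ∧ ∀ k : ℕ, IsConj B (B ^ k) → k % 7 ∈ ({1, 2, 4} : Finset ℕ) := by
  classical
  haveI := charP_three hK
  haveI : Fact (Nat.Prime 3) := ⟨Nat.prime_three⟩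
  let L := AlgebraicClosure K
  let ι : K →+* L := algebraMap K L
  haveI : CharP L 3 := charP_of_injective_algebraMap (algebraMap K L).injective 3
  let gl : Cfsg.SU 4 K 3 →* GL (Fin 4) K := Matrix.SpecialLinearGroup.toGL.comp (Cfsg.SU 4 K 3).subtype
  have hgl : Function.Injective gl := Matrix.SpecialLinearGroup.toGL_injective.comp Subtype.val_injective
  obtain ⟨l, v, hord, hinj, hli, hv, -, -, hroots⟩ := exists_eigen hK ι (gl B) B.2
    (by rw [← map_pow, hB7, map_one]) (fun h => hBne (hgl (h.trans (map_one gl).symm)))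
  let m : Cfsg.SU 4 K 3 →* Matrix (Fin 4) (Fin 4) L :=
    (ι.mapMatrix.toMonoidHom).comp ((Units.coeHom _).comp gl)
  have hmroot : ∀ (k : ℕ) i, (![1, l, l ^ 2, l ^ 4] i) ^ k ∈ (m (B ^ k)).charpoly.roots := by
    intro k i
    have hpow : m (B ^ k) *ᵥ v i = (![1, l, l ^ 2, l ^ 4] i) ^ k • v i := by
      induction k with
      | zero => simp
      | succ k ih =>
        rw [pow_succ, map_mul, ← Matrix.mulVec_mulVec, show m B *ᵥ v i = _ from hv i, Matrix.mulVec_smul, ih,
          smul_smul, ← pow_succ']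
    rw [Polynomial.mem_roots (Matrix.charpoly_monic _).ne_zero, IsRoot.def, Matrix.eval_charpoly,
      ← Matrix.exists_mulVec_eq_zero_iff]
    refine ⟨v i, hli.ne_zero i, ?_⟩
    rw [Matrix.sub_mulVec, hpow, sub_eq_zero]
    funext j
    simp [Matrix.scalar_apply, Matrix.mulVec_diagonal]
  have hmap : ∀ x, (m x).charpoly = x.1.1.charpoly.map ι := fun x => Matrix.charpoly_map _ ι
  have hmod : ∀ a b : ℕ, l ^ a = l ^ b → a % 7 = b % 7 := by
    intro a b h
    rw [← pow_mod_orderOf l a, ← pow_mod_orderOf l b, hord] at h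
    exact pow_injOn_Iio_orderOf (by rw [hord]; exact Nat.mod_lt _ (by norm_num))
      (by rw [hord]; exact Nat.mod_lt _ (by norm_num)) h
  refine ⟨?_, fun k hk => ?_⟩
  · refine CfsgLib.Geo.USemi.isConj_SU 3 hK B (B ^ 2) ?_ ?_ ?_
    · exact Nat.Coprime.coprime_dvd_left (orderOf_dvd_of_pow_eq_one hB7) (by norm_num)
    · exact Nat.Coprime.coprime_dvd_left ((orderOf_pow_dvd 2).trans (orderOf_dvd_of_pow_eq_one hB7)) (by norm_num)
    · refine Polynomial.map_injective ι ι.injective ?_
      rw [← hmap, ← hmap]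
      set T : Multiset L := {1, l, l ^ 2, l ^ 4} with hT
      have hTn : T.Nodup := by
        have : T = (Finset.univ : Finset (Fin 4)).val.map ![1, l, l ^ 2, l ^ 4] := rfl
        rw [this]
        exact Finset.univ.nodup.map hinj
      have hsub : T ≤ (m (B ^ 2)).charpoly.roots := by
        rw [Multiset.le_iff_subset hTn]
        intro x hx
        simp only [hT, Multiset.insert_eq_cons, Multiset.mem_cons, Multiset.mem_singleton] at hx
        rcases hx with h | h | h | h <;> rw [h]
        · simpa using hmroot 2 0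
        · have := hmroot 2 3
          simpa [← pow_mul, ← pow_mod_orderOf l 8, hord] using this
        · simpa using hmroot 2 1
        · simpa [← pow_mul] using hmroot 2 2
      have heq := Multiset.eq_of_le_of_card_le hsub (by
        rw [IsAlgClosed.card_roots_eq_natDegree, Matrix.charpoly_natDegree_eq_dim]; simp [hT])
      rw [(IsAlgClosed.splits (m B).charpoly).eq_prod_roots_of_monic (Matrix.charpoly_monic _),
        (IsAlgClosed.splits (m (B ^ 2)).charpoly).eq_prod_roots_of_monic (Matrix.charpoly_monic _), ← heq]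
      rw [show (m B).charpoly.roots = T from hroots]
  · have hcp : (m (B ^ k)).charpoly = (m B).charpoly := by
      obtain ⟨c, hc⟩ := isConj_iff.1 hk
      rw [← hc, map_mul, map_mul]
      rw [mul_assoc, Matrix.charpoly_mul_comm, mul_assoc, ← map_mul m c⁻¹ c, inv_mul_cancel, map_one, mul_one]
    have h1 := hmroot k 1
    rw [hcp, show (m B).charpoly.roots = _ from hroots] at h1
    simp only [Matrix.cons_val, Multiset.insert_eq_cons, Multiset.mem_cons, Multiset.mem_singleton] at h1
    simp only [Finset.mem_insert, Finset.mem_singleton]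
    rcases h1 with h | h | h | h
    · exfalso
      have hk0 := hmod k 0 (by simpa using h)
      have hBk : B ^ k = 1 := by
        rw [← Nat.div_add_mod k 7, pow_add, pow_mul, hB7, one_pow, one_mul, hk0]; simp
      rw [hBk, isConj_one_left] at hk
      exact hBne hk
    · exact Or.inl (hmod k 1 (by simpa using h))
    · exact Or.inr (Or.inl (hmod k 2 h))
    · exact Or.inr (Or.inr (hmod k 4 h))

end CfsgLib.U43Seven
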